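import Groth.Agent.GrpdDense.Quot
import Groth.Agent.GrpAct.Groupoid

/-!
# The groupoid of an action: hypotheses of the dense quotient theorem
-/

set_option autoImplicit false
set_option backward.isDefEq.respectTransparency false
set_option backward.isDefEq.respectTransparency.types false

universe u

open CategoryTheory CategoryTheory.Limits MonoidalCategory CartesianMonoidalCategory MonObj AlgebraicGeometry

namespace Groth.Agent.GrpdDense

variable {S : Scheme.{u}} {G X : Over S} [GrpObj G] (a : AlgGrp.Action G X)

theorem groupoid_j : (GrpAct.groupoid a).j = (lift a.act (snd G X)).left := by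
  apply pullback.hom_ext
  · rw [Grpd.GroupoidScheme.j, pullback.lift_fst]
    exact (congrArg CommaMorphism.left (lift_fst a.act (snd G X))).symm
  · rw [Grpd.GroupoidScheme.j, pullback.lift_snd]
    exact (congrArg CommaMorphism.left (lift_snd a.act (snd G X))).symm

theorem groupoid_diag : (GrpAct.groupoid a).diag = (lift (𝟙 X) (𝟙 X)).left := by
  apply pullback.hom_ext
  · rw [Grpd.GroupoidScheme.diag, pullback.lift_fst]
    exact (congrArg CommaMorphism.left (lift_fst (𝟙 X) (𝟙 X))).symm
  · rw [Grpd.GroupoidScheme.diag, pullback.lift_snd]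
    exact (congrArg CommaMorphism.left (lift_snd (𝟙 X) (𝟙 X))).symm

theorem stabilizer_property (P : MorphismProperty Scheme.{u}) [P.RespectsIso]
    (h : P (pullback.snd (lift a.act (snd G X)) (lift (𝟙 X) (𝟙 X))).left) :
    P (GrpAct.groupoid a).stabilizerToU := by
  have hsq : IsPullback (pullback.fst (lift a.act (snd G X)) (lift (𝟙 X) (𝟙 X))).left
      (pullback.snd (lift a.act (snd G X)) (lift (𝟙 X) (𝟙 X))).left
      (GrpAct.groupoid a).j (GrpAct.groupoid a).diag := by
    rw [groupoid_j, groupoid_diag]
    exact (IsPullback.of_hasPullback _ _).map (Over.forget S)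
  show P (pullback.snd (GrpAct.groupoid a).j (GrpAct.groupoid a).diag)
  rw [← hsq.isoPullback_inv_snd]
  exact (MorphismProperty.cancel_left_of_respectsIso P _ _).2 h

end Groth.Agent.GrpdDense
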