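import Groth.Agent.GrpdDense.Image
import Groth.Agent.GrpdDense.Action
import Groth.Agent.S4096
import Groth.Agent.GrpdInv.Basic
import Groth.Agent.AlgSpLib.LocalTarget
import Groth.Agent.GenFree.Scheme

/-!
# Dense open quotient of an action with flat stabilizer, or on a reduced scheme
-/

set_option autoImplicit false
set_option backward.isDefEq.respectTransparency false
set_option backward.isDefEq.respectTransparency.types false

universe u

open CategoryTheory CategoryTheory.Limits MonoidalCategory CartesianMonoidalCategory MonObj GrpObj AlgebraicGeometry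

namespace Groth.Agent.GrpdDense

variable {S : Scheme.{u}} [IsNoetherian S] {G X : Over S} [GrpObj G]
  [Flat G.hom] [LocallyOfFiniteType G.hom] [QuasiCompact G.hom] [LocallyOfFiniteType X.hom]
  [QuasiCompact X.hom]

/-- The conclusion: a dense invariant open with a flat quotient of finite type. -/
def HasDenseFlatQuotient (a : AlgGrp.Action G X) : Prop :=
  ∃ (U : X.left.Opens) (hU : a.act.left ⁻¹ᵁ U = (snd G X).left ⁻¹ᵁ U), Dense (U : Set X.left) ∧
    ∃ (V : Scheme.{u}) (p : (U : Scheme.{u}) ⟶ V)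
      (w : a.act.left.resLE U ((snd G X).left ⁻¹ᵁ U) hU.ge ≫ p = ((snd G X).left ∣_ U) ≫ p) (q : V ⟶ S),
      Nonempty (IsColimit (Cofork.ofπ p w)) ∧ p ≫ q = U.ι ≫ X.hom ∧
      Surjective p ∧ Flat p ∧ LocallyOfFinitePresentation p ∧ LocallyOfFiniteType q ∧ QuasiCompact q

theorem hasDenseFlatQuotient_of_flat (a : AlgGrp.Action G X)
    (hF : Flat (pullback.snd (lift a.act (snd G X)) (lift (𝟙 X) (𝟙 X))).left) :
    HasDenseFlatQuotient a := by
  obtain ⟨h1, h2⟩ := S4096.result S G X a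
  obtain ⟨Y, ψ, τ, hψτ, hs, hf, hp, hm⟩ := h1.2 hF
  obtain ⟨-, -, -, -, -, -, b2, b3, b4, -⟩ := h2 Y ψ τ hψτ hs hf hp hm
  haveI := hs; haveI := hf; haveI := hp; haveI := hm; haveI := b2; haveI := b3; haveI := b4
  haveI : Mono τ.left := inferInstanceAs (Mono ((Over.forget S).map τ))
  let H := GrpAct.groupoid a
  haveI : LocallyOfFiniteType H.pU := ‹LocallyOfFiniteType X.hom›
  haveI : QuasiCompact H.pU := ‹QuasiCompact X.hom›
  haveI : LocallyOfFiniteType H.pR := inferInstanceAs (LocallyOfFiniteType (pullback.fst G.hom X.hom ≫ G.hom))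
  haveI : QuasiCompact H.pR := inferInstanceAs (QuasiCompact (pullback.fst G.hom X.hom ≫ G.hom))
  refine exists_quotient_of_image H ψ.left (τ ≫ snd X X).left (τ ≫ fst X X).left ?_ ?_ ?_
  · show ψ.left ≫ _ = (snd G X).left
    rw [← Over.comp_left, reassoc_of% hψτ, lift_snd]
  · show ψ.left ≫ _ = a.act.left
    rw [← Over.comp_left, reassoc_of% hψτ, lift_fst]
  · intro T α β e₁ e₂
    rw [← cancel_mono τ.left]
    rw [Over.comp_left] at e₁ e₂
    apply pullback.hom_ext
    · simpa using e₁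
    · simpa using e₂

/-- restriction of an action to an invariant open -/
theorem exists_restrict (a : AlgGrp.Action G X) (V : X.left.Opens)
    (hV : a.act.left ⁻¹ᵁ V = (snd G X).left ⁻¹ᵁ V) :
    ∃ a' : AlgGrp.Action G (Over.mk (V.ι ≫ X.hom)),
      a'.act ≫ (Over.homMk V.ι rfl : Over.mk (V.ι ≫ X.hom) ⟶ X) =
        (G ◁ (Over.homMk V.ι rfl : Over.mk (V.ι ≫ X.hom) ⟶ X)) ≫ a.act := by
  let X' : Over S := Over.mk (V.ι ≫ X.hom)
  let ι' : X' ⟶ X := Over.homMk V.ι rfl
  haveI : IsOpenImmersion ι'.left := inferInstanceAs (IsOpenImmersion V.ι)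
  have hr : Set.range ((G ◁ ι') ≫ a.act).left ⊆ Set.range V.ι := by
    rw [Scheme.Opens.range_ι]
    rintro _ ⟨p, rfl⟩
    show (G ◁ ι').left p ∈ a.act.left ⁻¹ᵁ V
    rw [hV]
    show (snd G X).left ((G ◁ ι').left p) ∈ V
    have : (G ◁ ι').left ≫ (snd G X).left = (snd G X').left ≫ V.ι := by
      rw [← Over.comp_left, whiskerLeft_snd]; rfl
    rw [← Scheme.Hom.comp_apply, this]
    exact ((snd G X').left p).2
  let l : (G ⊗ X').left ⟶ (V : Scheme.{u}) := IsOpenImmersion.lift V.ι ((G ◁ ι') ≫ a.act).left hr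
  have hl : l ≫ V.ι = ((G ◁ ι') ≫ a.act).left := IsOpenImmersion.lift_fac _ _ _
  let act' : G ⊗ X' ⟶ X' := Over.homMk l (by
    show l ≫ V.ι ≫ X.hom = _
    rw [← Category.assoc, hl, Over.w])
  have hact : act' ≫ ι' = (G ◁ ι') ≫ a.act := Over.OverMorphism.ext hl
  haveI : Mono ι' := (Over.forget S).mono_of_mono_map (inferInstanceAs (Mono V.ι))
  refine ⟨⟨act', ?_, ?_⟩, hact⟩
  · rw [← cancel_mono ι', Category.assoc, hact, ← whisker_exchange_assoc, a.one_act, leftUnitor_naturality]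
  · rw [← cancel_mono ι', Category.assoc, Category.assoc, Category.assoc, hact,
      ← whisker_exchange_assoc, a.mul_act, ← whiskerLeft_comp_assoc, hact, whiskerLeft_comp_assoc,
      associator_naturality_right_assoc]

theorem whiskerLeft_left_eq (V : X.left.Opens) :
    (G ◁ (Over.homMk V.ι rfl : Over.mk (V.ι ≫ X.hom) ⟶ X)).left =
      pullback.map G.hom (V.ι ≫ X.hom) G.hom X.hom (𝟙 _) V.ι (𝟙 _) (by simp) (by simp) := by
  apply pullback.hom_ext
  · refine Eq.trans ?_ (pullback.lift_fst _ _ _).symm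
    rw [Category.comp_id]
    show ((G ◁ (Over.homMk V.ι rfl : Over.mk (V.ι ≫ X.hom) ⟶ X)) ≫ fst G X).left = _
    rw [whiskerLeft_fst]; rfl
  · refine Eq.trans ?_ (pullback.lift_snd _ _ _).symm
    show ((G ◁ (Over.homMk V.ι rfl : Over.mk (V.ι ≫ X.hom) ⟶ X)) ≫ snd G X).left = _
    rw [whiskerLeft_snd]; rfl

theorem range_whiskerLeft (V : X.left.Opens) :
    Set.range (G ◁ (Over.homMk V.ι rfl : Over.mk (V.ι ≫ X.hom) ⟶ X)).left =
      ((snd G X).left ⁻¹ᵁ V : Set (G ⊗ X).left) := by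
  rw [whiskerLeft_left_eq]
  refine (Scheme.Pullback.range_map _ _ _ _ _ _ _ _ _).trans ?_
  rw [Scheme.Opens.range_ι]
  ext p
  simp only [Set.mem_inter_iff, Set.mem_preimage]
  exact ⟨fun hp => hp.2, fun hp => ⟨⟨pullback.fst G.hom X.hom p, rfl⟩, hp⟩⟩

/-- the stabilizer of a restricted action -/
theorem isPullback_stab {a : AlgGrp.Action G X} {X' : Over S} {a' : AlgGrp.Action G X'} (ι' : X' ⟶ X)
    [Mono ι'] (hact : a'.act ≫ ι' = (G ◁ ι') ≫ a.act) :
    ∃ k : pullback (lift a'.act (snd G X')) (lift (𝟙 X') (𝟙 X')) ⟶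
        pullback (lift a.act (snd G X)) (lift (𝟙 X) (𝟙 X)),
      IsPullback k (pullback.snd (lift a'.act (snd G X')) (lift (𝟙 X') (𝟙 X')))
        (pullback.snd (lift a.act (snd G X)) (lift (𝟙 X) (𝟙 X))) ι' := by
  set d := lift a.act (snd G X)
  set d' := lift a'.act (snd G X')
  have hd : ∀ {T : Over S} (f : T ⟶ pullback d (lift (𝟙 X) (𝟙 X))),
      (f ≫ pullback.fst _ _) ≫ a.act = f ≫ pullback.snd _ _ ∧
      (f ≫ pullback.fst _ _) ≫ snd G X = f ≫ pullback.snd _ _ := fun f =>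
    ⟨by simpa [d, Category.assoc] using congrArg (fun m => f ≫ m ≫ fst X X) pullback.condition,
     by simpa [d, Category.assoc] using congrArg (fun m => f ≫ m ≫ snd X X) pullback.condition⟩
  have e1 : pullback.fst d' (lift (𝟙 X') (𝟙 X')) ≫ a'.act = pullback.snd _ _ := by
    simpa [d'] using pullback.condition (f := d') (g := lift (𝟙 X') (𝟙 X')) =≫ fst X' X'
  have e2 : pullback.fst d' (lift (𝟙 X') (𝟙 X')) ≫ snd G X' = pullback.snd _ _ := by
    simpa [d'] using pullback.condition (f := d') (g := lift (𝟙 X') (𝟙 X')) =≫ snd X' X'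
  let k : pullback d' (lift (𝟙 X') (𝟙 X')) ⟶ pullback d (lift (𝟙 X) (𝟙 X)) :=
    pullback.lift (pullback.fst _ _ ≫ (G ◁ ι')) (pullback.snd _ _ ≫ ι') (by
      apply CartesianMonoidalCategory.hom_ext
      · simp [d, ← hact, reassoc_of% e1]
      · simp [d, reassoc_of% e2])
  refine ⟨k, ⟨⟨pullback.lift_snd _ _ _⟩, ⟨PullbackCone.IsLimit.mk _ (fun c =>
    pullback.lift (lift (c.fst ≫ pullback.fst _ _ ≫ fst G X) c.snd) c.snd (by
      apply CartesianMonoidalCategory.hom_ext
      · simp only [d', Category.assoc, lift_fst, Category.comp_id]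
        have hw : lift (c.fst ≫ pullback.fst d _ ≫ fst G X) (c.fst ≫ pullback.snd d _) =
            c.fst ≫ pullback.fst d _ :=
          CartesianMonoidalCategory.hom_ext _ _ (by simp) (by simp [← (hd c.fst).2])
        rw [← cancel_mono ι', Category.assoc, hact, lift_whiskerLeft_assoc, ← c.condition,
          hw, (hd c.fst).1]
      · simp [d']))
    (fun c => ?_) (fun c => pullback.lift_snd _ _ _) (fun c m h₁ h₂ => ?_)⟩⟩⟩
  · apply pullback.hom_ext
    · simp only [k, Category.assoc, pullback.lift_fst, pullback.lift_fst_assoc, lift_whiskerLeft]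
      apply CartesianMonoidalCategory.hom_ext
      · simp
      · simp [← c.condition, ← (hd c.fst).2]
    · simp [k, c.condition]
  · apply pullback.hom_ext
    · rw [pullback.lift_fst]
      apply CartesianMonoidalCategory.hom_ext
      · rw [lift_fst, ← h₁]
        simp [k]
      · rw [lift_snd, Category.assoc, e2, h₂]
    · rw [pullback.lift_snd, h₂]

theorem hasDenseFlatQuotient_of_restrict (a : AlgGrp.Action G X) (V : X.left.Opens)
    (hV : a.act.left ⁻¹ᵁ V = (snd G X).left ⁻¹ᵁ V) (hd : Dense (V : Set X.left))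
    [LocallyOfFiniteType (Over.mk (V.ι ≫ X.hom)).hom] [QuasiCompact (Over.mk (V.ι ≫ X.hom)).hom]
    (a' : AlgGrp.Action G (Over.mk (V.ι ≫ X.hom)))
    (hact : a'.act ≫ (Over.homMk V.ι rfl : Over.mk (V.ι ≫ X.hom) ⟶ X) =
        (G ◁ (Over.homMk V.ι rfl : Over.mk (V.ι ≫ X.hom) ⟶ X)) ≫ a.act)
    (h : HasDenseFlatQuotient a') : HasDenseFlatQuotient a := by
  obtain ⟨U', hU', hd', Q', p', w', q', hcol, hpq, hsurj, hflat, hlfp, hlft, hqc⟩ := h
  let X' : Over S := Over.mk (V.ι ≫ X.hom)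
  let ι' : X' ⟶ X := Over.homMk V.ι rfl
  let U : X.left.Opens := V.ι ''ᵁ U'
  have hUV : U ≤ V := V.ι_image_le U'
  have hsndι : (G ◁ ι').left ≫ (snd G X).left = (snd G X').left ≫ V.ι := by
    rw [← Over.comp_left, whiskerLeft_snd]; rfl
  have hactι : (G ◁ ι').left ≫ a.act.left = a'.act.left ≫ V.ι := by
    rw [← Over.comp_left, ← hact]; rfl
  haveI : IsOpenImmersion (G ◁ ι').left := by
    rw [whiskerLeft_left_eq]; infer_instance
  have hs_pt : ∀ q', (snd G X).left ((G ◁ ι').left q') = V.ι ((snd G X').left q') :=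
    fun q' => congr($hsndι q')
  have ha_pt : ∀ q', a.act.left ((G ◁ ι').left q') = V.ι (a'.act.left q') :=
    fun q' => congr($hactι q')
  have hinj : ∀ {y z : (V : Scheme.{u})}, V.ι y = V.ι z → y = z :=
    fun h => V.ι.isOpenEmbedding.injective h
  have hU : a.act.left ⁻¹ᵁ U = (snd G X).left ⁻¹ᵁ U := by
    ext q
    constructor
    · intro hq
      have hq' : q ∈ ((snd G X).left ⁻¹ᵁ V : Set (G ⊗ X).left) := by
        rw [← hV]; exact hUV hq
      rw [← range_whiskerLeft V] at hq'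
      obtain ⟨q', rfl⟩ := hq'
      obtain ⟨y, hy, hy'⟩ := hq
      refine ⟨(snd G X').left q', ?_, (hs_pt q').symm⟩
      show q' ∈ (snd G X').left ⁻¹ᵁ U'
      rw [← hU']
      show a'.act.left q' ∈ U'
      have : V.ι y = V.ι (a'.act.left q') := hy'.trans (ha_pt q')
      rwa [← hinj this]
    · intro hq
      have hq' : q ∈ ((snd G X).left ⁻¹ᵁ V : Set (G ⊗ X).left) := hUV hq
      rw [← range_whiskerLeft V] at hq'
      obtain ⟨q', rfl⟩ := hq'
      obtain ⟨y, hy, hy'⟩ := hq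
      refine ⟨a'.act.left q', ?_, (ha_pt q').symm⟩
      show q' ∈ a'.act.left ⁻¹ᵁ U'
      rw [hU']
      show (snd G X').left q' ∈ U'
      have : V.ι y = V.ι ((snd G X').left q') := hy'.trans (hs_pt q')
      rwa [← hinj this]
  refine ⟨U, hU, ?_, Q', ?_⟩
  · exact DenseRange.dense_image
      ((congrArg Dense (Scheme.Opens.range_ι V)).mpr hd : DenseRange V.ι) V.ι.continuous hd'
  let e : (U' : Scheme.{u}) ≅ U := V.ι.isoImage U'
  have he : e.hom ≫ U.ι = U'.ι ≫ V.ι := V.ι.isoImage_hom_ι U'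
  let ω : ((snd G X').left ⁻¹ᵁ U').toScheme ⟶ (G ⊗ X).left := ((snd G X').left ⁻¹ᵁ U').ι ≫ (G ◁ ι').left
  let ε := IsOpenImmersion.isoOfRangeEq ((snd G X).left ⁻¹ᵁ U).ι ω (by
    rw [Scheme.Opens.range_ι]
    ext q
    constructor
    · intro hq
      have hq' : q ∈ ((snd G X).left ⁻¹ᵁ V : Set (G ⊗ X).left) := hUV hq
      rw [← range_whiskerLeft V] at hq'
      obtain ⟨q', rfl⟩ := hq'
      obtain ⟨y, hy, hy'⟩ := hq
      have : V.ι y = V.ι ((snd G X').left q') := hy'.trans (hs_pt q')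
      exact ⟨⟨q', show (snd G X').left q' ∈ U' from hinj this ▸ hy⟩, rfl⟩
    · rintro ⟨q', rfl⟩
      exact ⟨(snd G X').left q'.1, q'.2, (hs_pt q'.1).symm⟩)
  have hε : ε.hom ≫ ω = ((snd G X).left ⁻¹ᵁ U).ι := IsOpenImmersion.isoOfRangeEq_hom_fac ..
  have ha1 : ε.hom ≫ a'.act.left.resLE U' ((snd G X').left ⁻¹ᵁ U') hU'.ge ≫ e.hom =
      a.act.left.resLE U ((snd G X).left ⁻¹ᵁ U) hU.ge := by
    rw [← cancel_mono U.ι]
    simp only [Category.assoc, he, Scheme.Hom.resLE_comp_ι_assoc, Scheme.Hom.resLE_comp_ι]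
    rw [← hε, ← hactι]
    simp [ω]
  have hb1 : ε.hom ≫ ((snd G X').left ∣_ U') ≫ e.hom = (snd G X).left ∣_ U := by
    rw [← cancel_mono U.ι]
    simp only [Category.assoc, he, morphismRestrict_ι_assoc, morphismRestrict_ι]
    rw [← hε, ← hsndι]
    simp [ω]
  obtain ⟨w, hcol'⟩ := transport_coeq hcol.some e ε.hom ha1 hb1
  refine ⟨e.inv ≫ p', w, q', hcol', ?_, inferInstance, inferInstance, inferInstance, hlft, hqc⟩
  rw [Category.assoc, hpq]
  show e.inv ≫ U'.ι ≫ V.ι ≫ X.hom = _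
  rw [← reassoc_of% he, e.inv_hom_id_assoc]


theorem hasDenseFlatQuotient_of_reduced (a : AlgGrp.Action G X) [IsReduced X.left] :
    HasDenseFlatQuotient a := by
  let H := GrpAct.groupoid a
  haveI : LocallyOfFiniteType H.pU := ‹LocallyOfFiniteType X.hom›
  haveI : QuasiCompact H.pU := ‹QuasiCompact X.hom›
  haveI : IsReduced H.U := ‹IsReduced X.left›
  haveI : IsLocallyNoetherian H.U := LocallyOfFiniteType.isLocallyNoetherian H.pU
  haveI : CompactSpace H.U := QuasiCompact.compactSpace_of_compactSpace H.pU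
  haveI : IsNoetherian H.U := ⟨⟩
  haveI : Flat H.s := MorphismProperty.pullback_snd (P := @Flat) G.hom X.hom inferInstance
  haveI : LocallyOfFiniteType H.s :=
    MorphismProperty.pullback_snd (P := @LocallyOfFiniteType) G.hom X.hom inferInstance
  haveI : QuasiCompact H.s := MorphismProperty.pullback_snd (P := @QuasiCompact) G.hom X.hom inferInstance
  haveI : IsLocallyNoetherian H.R := LocallyOfFiniteType.isLocallyNoetherian H.s
  haveI : CompactSpace H.R := QuasiCompact.compactSpace_of_compactSpace H.s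
  haveI : IsNoetherian H.R := ⟨⟩
  haveI : IsIso H.i := ⟨H.i, GrpdLib.i_i H, GrpdLib.i_i H⟩
  haveI : Flat H.t := H.i_s ▸ inferInstance
  haveI : LocallyOfFiniteType H.t := H.i_s ▸ inferInstance
  haveI : LocallyOfFiniteType H.pR := inferInstanceAs (LocallyOfFiniteType (pullback.fst G.hom X.hom ≫ G.hom))
  haveI : LocallyOfFiniteType (H.j ≫ pullback.snd H.pU H.pU ≫ H.pU) := by
    rw [Grpd.GroupoidScheme.j, pullback.lift_snd_assoc, H.s_over]; infer_instance
  haveI : LocallyOfFiniteType H.j := locallyOfFiniteType_of_comp H.j (pullback.snd H.pU H.pU ≫ H.pU)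
  haveI : QuasiSeparated (pullback.snd H.pU H.pU ≫ H.pU) := by
    haveI : QuasiSeparated H.pU := inferInstance
    infer_instance
  haveI : QuasiCompact (H.j ≫ pullback.snd H.pU H.pU ≫ H.pU) := by
    rw [Grpd.GroupoidScheme.j, pullback.lift_snd_assoc]; infer_instance
  haveI : QuasiCompact H.j := QuasiCompact.of_comp H.j (pullback.snd H.pU H.pU ≫ H.pU)
  haveI : LocallyOfFiniteType H.stabilizerToU :=
    inferInstanceAs (LocallyOfFiniteType (pullback.snd H.j H.diag))
  haveI : QuasiCompact H.stabilizerToU := inferInstanceAs (QuasiCompact (pullback.snd H.j H.diag))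
  obtain ⟨O, hOd, hOf, -⟩ := GenFree.exists_dense_flat_fp H.stabilizerToU
  let V : H.U.Opens := ⨆ N : {N : H.U.Opens // Flat (H.stabilizerToU ∣_ N)}, N.1
  have hle : ∀ N : H.U.Opens, Flat (H.stabilizerToU ∣_ N) → N ≤ V := fun N hN =>
    le_iSup (fun N : {N : H.U.Opens // Flat (H.stabilizerToU ∣_ N)} => N.1) ⟨N, hN⟩
  have hVf : Flat (H.stabilizerToU ∣_ V) := by
    refine IsZariskiLocalAtTarget.of_iSup_eq_top (P := @Flat)
      (fun N : {N : H.U.Opens // Flat (H.stabilizerToU ∣_ N)} => V.ι ⁻¹ᵁ N.1) ?_ fun N => ?_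
    · rw [← Scheme.Hom.preimage_iSup]
      exact top_le_iff.1 fun x _ => x.2
    · refine (MorphismProperty.arrow_mk_iso_iff @Flat (morphismRestrictRestrict H.stabilizerToU V _)).2 ?_
      rw [Scheme.Hom.image_preimage_eq_opensRange_inf, Scheme.Opens.opensRange_ι,
        inf_eq_right.2 (hle N.1 N.2)]
      exact N.2
  haveI : Surjective H.s := ⟨fun x => ⟨H.e x, by rw [← Scheme.Hom.comp_apply, H.e_s]; rfl⟩⟩
  haveI : Surjective H.t := ⟨fun x => ⟨H.e x, by rw [← Scheme.Hom.comp_apply, H.e_t]; rfl⟩⟩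
  obtain ⟨Q, hQ⟩ := GrpdInv.exists_goodCov (K := Scheme.fppfPrecoverage.{u}) (by simp)
  have hinv : H.s ⁻¹ᵁ V = H.t ⁻¹ᵁ V :=
    GrpdInv.preimage_eq_of_iso H (P := @Flat) hQ (Scheme.Hom.singleton_mem_fppfPrecoverage H.s)
      (Scheme.Hom.singleton_mem_fppfPrecoverage H.t) H.stabilizerToU (GrpdInv.conj H)
      (GrpdInv.conj_hom_snd H) V hVf hle
  have hV : a.act.left ⁻¹ᵁ V = (snd G X).left ⁻¹ᵁ V := hinv.symm
  obtain ⟨a', hact⟩ := exists_restrict a V hV
  let X' : Over S := Over.mk (V.ι ≫ X.hom)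
  let ι' : X' ⟶ X := Over.homMk V.ι rfl
  haveI : Mono ι' := (Over.forget S).mono_of_mono_map (inferInstanceAs (Mono V.ι))
  haveI : LocallyOfFiniteType X'.hom := inferInstanceAs (LocallyOfFiniteType (V.ι ≫ H.pU))
  haveI : QuasiCompact V.ι := inferInstance
  haveI : QuasiCompact X'.hom := inferInstanceAs (QuasiCompact (V.ι ≫ H.pU))
  have hF' : Flat (pullback.snd (lift a'.act (snd G X')) (lift (𝟙 X') (𝟙 X'))).left := by
    obtain ⟨k, hk⟩ := isPullback_stab ι' hact
    have h1 := hk.map (Over.forget S)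
    have hsq : IsPullback (pullback.fst (lift a.act (snd G X)) (lift (𝟙 X) (𝟙 X))).left
        (pullback.snd (lift a.act (snd G X)) (lift (𝟙 X) (𝟙 X))).left H.j H.diag := by
      show IsPullback _ _ (GrpAct.groupoid a).j (GrpAct.groupoid a).diag
      rw [groupoid_j, groupoid_diag]
      exact (IsPullback.of_hasPullback _ _).map (Over.forget S)
    have h2 : IsPullback (k.left ≫ hsq.isoPullback.hom)
        (pullback.snd (lift a'.act (snd G X')) (lift (𝟙 X') (𝟙 X'))).left H.stabilizerToU V.ι :=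
      h1.of_iso (Iso.refl _) hsq.isoPullback (Iso.refl _) (Iso.refl _)
        (by simp) (by simp)
        (by simp [Grpd.GroupoidScheme.stabilizerToU])
        (by simp; rfl)
    have h3 := (isPullback_morphismRestrict H.stabilizerToU V).flip
    rw [← h2.isoIsPullback_hom_snd _ _ h3]
    exact (MorphismProperty.cancel_left_of_respectsIso @Flat _ _).2 hVf
  exact hasDenseFlatQuotient_of_restrict a V hV (hOd.mono (hle O hOf)) a' hact
    (hasDenseFlatQuotient_of_flat a' hF')

end Groth.Agent.GrpdDense
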