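import Groth.Agent.GrpdDense.Quot
import Mathlib.AlgebraicGeometry.Sites.Fpqc

/-!
# The image equivalence relation of a groupoid, and transport of coequalisers
-/

set_option autoImplicit false
set_option backward.isDefEq.respectTransparency false

universe u

open CategoryTheory CategoryTheory.Limits AlgebraicGeometry

namespace Groth.Agent.GrpdDense

open Groth.Agent.GrpdLib

/-- A coequaliser transported along an epimorphism on arrows and an isomorphism on objects. -/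
theorem transport_coeq {R R' U U' V : Scheme.{u}} {a b : R ⟶ U} {a' b' : R' ⟶ U'} {p : U' ⟶ V}
    {w : a' ≫ p = b' ≫ p} (h : IsColimit (Cofork.ofπ p w)) (e : U' ≅ U) (ψ : R ⟶ R') [Epi ψ]
    (ha : ψ ≫ a' ≫ e.hom = a) (hb : ψ ≫ b' ≫ e.hom = b) :
    ∃ w' : a ≫ e.inv ≫ p = b ≫ e.inv ≫ p, Nonempty (IsColimit (Cofork.ofπ (e.inv ≫ p) w')) := by
  refine ⟨by rw [← ha, ← hb]; simp [w], ?_⟩
  have hc : ∀ c : Cofork a b, a' ≫ e.hom ≫ c.π = b' ≫ e.hom ≫ c.π := fun c => by
    rw [← cancel_epi ψ, reassoc_of% ha, reassoc_of% hb, c.condition]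
  refine ⟨Cofork.IsColimit.mk _ (fun c => h.desc (Cofork.ofπ (e.hom ≫ c.π) (hc c))) (fun c => ?_)
    (fun c m hm => ?_)⟩
  · have := h.fac (Cofork.ofπ (e.hom ≫ c.π) (hc c)) WalkingParallelPair.one
    change p ≫ _ = e.hom ≫ c.π at this
    simp [this]
  · refine Cofork.IsColimit.hom_ext h ?_
    have := h.fac (Cofork.ofπ (e.hom ≫ c.π) (hc c)) WalkingParallelPair.one
    refine Eq.trans ?_ this.symm
    change p ≫ m = e.hom ≫ c.π
    rw [← hm]
    simp

variable {S : Scheme.{u}} (H : Grpd.GroupoidScheme S) {R' : Scheme.{u}} (ψ : H.R ⟶ R')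
  (s' t' : R' ⟶ H.U)

/-- Jointly monic source and target. -/
def JointlyMono : Prop :=
  ∀ {T : Scheme.{u}} (α β : T ⟶ R'), α ≫ t' = β ≫ t' → α ≫ s' = β ≫ s' → α = β

variable (hs : ψ ≫ s' = H.s) (ht : ψ ≫ t' = H.t) (hjm : JointlyMono H s' t')
variable [Flat ψ] [Surjective ψ] [LocallyOfFinitePresentation ψ]

include hs ht hjm in
/-- the image of a groupoid is an equivalence relation -/
theorem exists_imageGrp : ∃ (c : pullback s' t' ⟶ R') (i : R' ⟶ R'),
    c ≫ s' = pullback.snd s' t' ≫ s' ∧ c ≫ t' = pullback.fst s' t' ≫ t' ∧ i ≫ s' = t' ∧ i ≫ t' = s' := by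
  let κ : pullback H.s H.t ⟶ pullback s' t' :=
    pullback.map _ _ _ _ ψ ψ (𝟙 _) (by rw [hs, Category.comp_id]) (by rw [ht, Category.comp_id])
  haveI : Surjective κ := MorphismProperty.pullbackMap (P := @Surjective) ‹_› ‹_› hs.symm ht.symm
  haveI : Flat κ := MorphismProperty.pullbackMap (P := @Flat) ‹_› ‹_› hs.symm ht.symm
  haveI : LocallyOfFinitePresentation κ :=
    MorphismProperty.pullbackMap (P := @LocallyOfFinitePresentation) ‹_› ‹_› hs.symm ht.symm
  haveI : Epi κ := inferInstance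
  haveI : Epi ψ := inferInstance
  have hcs : (H.c ≫ ψ) ≫ s' = κ ≫ pullback.snd s' t' ≫ s' := by
    rw [Category.assoc, hs, c_s, show κ ≫ pullback.snd s' t' ≫ s' = pullback.snd H.s H.t ≫ H.s by
      simp [κ, hs]]
  have hct : (H.c ≫ ψ) ≫ t' = κ ≫ pullback.fst s' t' ≫ t' := by
    have h := H.comp_t (pullback.fst H.s H.t) (pullback.snd H.s H.t) pullback.condition
    rw [show pullback.lift (pullback.fst H.s H.t) (pullback.snd H.s H.t) pullback.condition = 𝟙 _ from
      pullback.hom_ext (by simp) (by simp), Category.id_comp] at h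
    rw [Category.assoc, ht, h, show κ ≫ pullback.fst s' t' ≫ t' = pullback.fst H.s H.t ≫ H.t by
      simp [κ, ht]]
  have his : (H.i ≫ ψ) ≫ s' = ψ ≫ t' := by rw [Category.assoc, hs, H.i_s, ht]
  have hit : (H.i ≫ ψ) ≫ t' = ψ ≫ s' := by rw [Category.assoc, ht, H.i_t, hs]
  refine ⟨EffectiveEpi.desc κ (H.c ≫ ψ) fun g₁ g₂ h => hjm _ _ ?_ ?_,
    EffectiveEpi.desc ψ (H.i ≫ ψ) fun g₁ g₂ h => hjm _ _ ?_ ?_, ?_, ?_, ?_, ?_⟩
  · rw [Category.assoc, hct, Category.assoc, hct, reassoc_of% h]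
  · rw [Category.assoc, hcs, Category.assoc, hcs, reassoc_of% h]
  · rw [Category.assoc, hit, Category.assoc, hit, reassoc_of% h]
  · rw [Category.assoc, his, Category.assoc, his, reassoc_of% h]
  · rw [← cancel_epi κ, EffectiveEpi.fac_assoc, hcs]
  · rw [← cancel_epi κ, EffectiveEpi.fac_assoc, hct]
  · rw [← cancel_epi ψ, EffectiveEpi.fac_assoc, his]
  · rw [← cancel_epi ψ, EffectiveEpi.fac_assoc, hit]

/-- the composition of the image -/
noncomputable def imageC : pullback s' t' ⟶ R' := (exists_imageGrp H ψ s' t' hs ht hjm).choose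

/-- the inverse of the image -/
noncomputable def imageI : R' ⟶ R' := (exists_imageGrp H ψ s' t' hs ht hjm).choose_spec.choose

lemma imageC_s : imageC H ψ s' t' hs ht hjm ≫ s' = pullback.snd s' t' ≫ s' :=
  (exists_imageGrp H ψ s' t' hs ht hjm).choose_spec.choose_spec.1

lemma imageC_t : imageC H ψ s' t' hs ht hjm ≫ t' = pullback.fst s' t' ≫ t' :=
  (exists_imageGrp H ψ s' t' hs ht hjm).choose_spec.choose_spec.2.1

lemma imageI_s : imageI H ψ s' t' hs ht hjm ≫ s' = t' :=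
  (exists_imageGrp H ψ s' t' hs ht hjm).choose_spec.choose_spec.2.2.1

lemma imageI_t : imageI H ψ s' t' hs ht hjm ≫ t' = s' :=
  (exists_imageGrp H ψ s' t' hs ht hjm).choose_spec.choose_spec.2.2.2

/-- the equivalence relation which is the image of `H` -/
noncomputable def imageGrp : Grpd.GroupoidScheme S :=
  { U := H.U
    R := R'
    pU := H.pU
    pR := s' ≫ H.pU
    s := s'
    t := t'
    e := H.e ≫ ψ
    i := imageI H ψ s' t' hs ht hjm
    c := imageC H ψ s' t' hs ht hjm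
    s_over := rfl
    t_over := by
      haveI : Epi ψ := inferInstance
      rw [← cancel_epi ψ, reassoc_of% ht, reassoc_of% hs, H.t_over, H.s_over]
    comp_s := fun α β hh => by
      rw [Category.assoc, imageC_s H ψ s' t' hs ht hjm, pullback.lift_snd_assoc]
    comp_t := fun α β hh => by
      rw [Category.assoc, imageC_t H ψ s' t' hs ht hjm, pullback.lift_fst_assoc]
    assoc := fun α β γ h₁ h₂ => hjm _ _
      (by simp only [Category.assoc, imageC_t H ψ s' t' hs ht hjm, pullback.lift_fst_assoc])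
      (by simp only [Category.assoc, imageC_s H ψ s' t' hs ht hjm, pullback.lift_snd_assoc])
    e_s := by rw [Category.assoc, hs, H.e_s]
    e_t := by rw [Category.assoc, ht, H.e_t]
    comp_e := fun α => hjm _ _
      (by rw [Category.assoc, imageC_t H ψ s' t' hs ht hjm, pullback.lift_fst_assoc])
      (by rw [Category.assoc, imageC_s H ψ s' t' hs ht hjm, pullback.lift_snd_assoc]; simp [hs, H.e_s])
    e_comp := fun α => hjm _ _
      (by rw [Category.assoc, imageC_t H ψ s' t' hs ht hjm, pullback.lift_fst_assoc]; simp [ht, H.e_t])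
      (by rw [Category.assoc, imageC_s H ψ s' t' hs ht hjm, pullback.lift_snd_assoc])
    i_s := imageI_s H ψ s' t' hs ht hjm
    i_t := imageI_t H ψ s' t' hs ht hjm
    comp_i := fun α => hjm _ _
      (by rw [Category.assoc, imageC_t H ψ s' t' hs ht hjm, pullback.lift_fst_assoc]; simp [ht, H.e_t])
      (by rw [Category.assoc, imageC_s H ψ s' t' hs ht hjm, pullback.lift_snd_assoc, Category.assoc,
        imageI_s H ψ s' t' hs ht hjm]; simp [hs, H.e_s])
    i_comp := fun α => hjm _ _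
      (by rw [Category.assoc, imageC_t H ψ s' t' hs ht hjm, pullback.lift_fst_assoc, Category.assoc,
        imageI_t H ψ s' t' hs ht hjm]; simp [ht, H.e_t])
      (by rw [Category.assoc, imageC_s H ψ s' t' hs ht hjm, pullback.lift_snd_assoc]; simp [hs, H.e_s]) }

include hjm in
theorem mono_j_imageGrp : Mono (imageGrp H ψ s' t' hs ht hjm).j :=
  ⟨fun α β h => hjm α β
    (by have := h =≫ pullback.fst _ _; simpa [Grpd.GroupoidScheme.j, imageGrp] using this)
    (by have := h =≫ pullback.snd _ _; simpa [Grpd.GroupoidScheme.j, imageGrp] using this)⟩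

theorem stabilizer_lqf_of_mono_j [Mono H.j] [LocallyOfFiniteType H.j] :
    LocallyQuasiFinite H.stabilizerToU ∧ LocallyOfFiniteType H.stabilizerToU := by
  haveI : Mono H.stabilizerToU := pullback.snd_of_mono
  haveI : LocallyOfFiniteType H.stabilizerToU :=
    inferInstanceAs (LocallyOfFiniteType (pullback.snd H.j H.diag))
  exact ⟨inferInstance, inferInstance⟩

include hs ht hjm in
/-- quotient of a dense invariant open when the image is representable -/
theorem exists_quotient_of_image [IsNoetherian S] [LocallyOfFiniteType H.pU] [QuasiCompact H.pU]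
    [LocallyOfFiniteType H.pR] [QuasiCompact H.pR]
    [Flat s'] [LocallyOfFiniteType s'] [QuasiCompact s'] :
    ∃ (W : H.U.Opens) (hW : H.t ⁻¹ᵁ W = H.s ⁻¹ᵁ W), Dense (W : Set H.U) ∧
      ∃ (V : Scheme.{u}) (p : (W : Scheme.{u}) ⟶ V)
        (w : H.t.resLE W (H.s ⁻¹ᵁ W) hW.ge ≫ p = (H.s ∣_ W) ≫ p) (q : V ⟶ S),
        Nonempty (IsColimit (Cofork.ofπ p w)) ∧ p ≫ q = W.ι ≫ H.pU ∧
        Surjective p ∧ Flat p ∧ LocallyOfFinitePresentation p ∧ LocallyOfFiniteType q ∧ QuasiCompact q := by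
  let E := imageGrp H ψ s' t' hs ht hjm
  haveI : Flat E.s := ‹Flat s'›
  haveI : LocallyOfFiniteType E.s := ‹LocallyOfFiniteType s'›
  haveI : QuasiCompact E.s := ‹QuasiCompact s'›
  haveI : LocallyOfFiniteType E.pU := ‹LocallyOfFiniteType H.pU›
  haveI : QuasiCompact E.pU := ‹QuasiCompact H.pU›
  haveI : Mono E.j := mono_j_imageGrp H ψ s' t' hs ht hjm
  haveI : LocallyOfFiniteType (E.j ≫ pullback.snd E.pU E.pU ≫ E.pU) := by
    rw [Grpd.GroupoidScheme.j, pullback.lift_snd_assoc]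
    infer_instance
  haveI : LocallyOfFiniteType E.j := locallyOfFiniteType_of_comp E.j (pullback.snd E.pU E.pU ≫ E.pU)
  obtain ⟨hq, hl⟩ := stabilizer_lqf_of_mono_j E
  obtain ⟨W, hW, hd, V, p, w, q, hcol, h2, h3, -, h5, h6, h7, -, -, h10⟩ := exists_dense_quotient E
  have hW' : H.t ⁻¹ᵁ W = H.s ⁻¹ᵁ W :=
    (congrArg (fun f : H.R ⟶ H.U => f ⁻¹ᵁ W) ht).symm.trans ((congrArg (fun O => ψ ⁻¹ᵁ O) hW).trans
      (congrArg (fun f : H.R ⟶ H.U => f ⁻¹ᵁ W) hs))
  refine ⟨W, hW', hd, V, p, ?_⟩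
  have hle : H.s ⁻¹ᵁ W ≤ ψ ⁻¹ᵁ (E.s ⁻¹ᵁ W) :=
    (congrArg (fun f : H.R ⟶ H.U => f ⁻¹ᵁ W) hs).ge
  let χ : (H.s ⁻¹ᵁ W).toScheme ⟶ (E.s ⁻¹ᵁ W).toScheme := ψ.resLE _ _ hle
  have hχι : χ ≫ (E.s ⁻¹ᵁ W).ι = (H.s ⁻¹ᵁ W).ι ≫ ψ := Scheme.Hom.resLE_comp_ι _ _
  have ha : χ ≫ E.t.resLE W (E.s ⁻¹ᵁ W) hW.ge ≫ (Iso.refl _).hom = H.t.resLE W (H.s ⁻¹ᵁ W) hW'.ge := by
    rw [Iso.refl_hom, Category.comp_id, ← cancel_mono W.ι, Category.assoc, Scheme.Hom.resLE_comp_ι,
      reassoc_of% hχι, Scheme.Hom.resLE_comp_ι]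
    exact congrArg (fun f => (H.s ⁻¹ᵁ W).ι ≫ f) ht
  have hb : χ ≫ (E.s ∣_ W) ≫ (Iso.refl _).hom = H.s ∣_ W := by
    rw [Iso.refl_hom, Category.comp_id, ← cancel_mono W.ι, Category.assoc, morphismRestrict_ι,
      reassoc_of% hχι, morphismRestrict_ι]
    exact congrArg (fun f => (H.s ⁻¹ᵁ W).ι ≫ f) hs
  haveI : LocallyOfFinitePresentation χ := inferInstanceAs (LocallyOfFinitePresentation (ψ.resLE _ _ _))
  haveI : Flat χ := inferInstanceAs (Flat (ψ.resLE _ _ _))
  haveI : Surjective χ := ⟨fun y => by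
    obtain ⟨x, hx⟩ := ψ.surjective y.1
    have hxW : x ∈ H.s ⁻¹ᵁ W := by
      show H.s x ∈ W
      rw [← hs, Scheme.Hom.comp_apply, hx]
      exact y.2
    exact ⟨⟨x, hxW⟩, Subtype.ext ((Scheme.Hom.coe_resLE_apply ..).trans hx)⟩⟩
  haveI : Epi χ := inferInstance
  obtain ⟨w', hcol'⟩ := transport_coeq hcol.some (Iso.refl _) χ ha hb
  simp only [Iso.refl_inv, Category.id_comp] at w' hcol'
  exact ⟨w', q, hcol', h2, h3, (h10 inferInstance).2, h5, inferInstance, h7⟩

end Groth.Agent.GrpdDense
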